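import Groth.Agent.AssPointLib.Push
import Groth.Agent.RpushLib.FlatPull
import Groth.Agent.RpushLib.BCMap
import Groth.Agent.QCohLib.Coherent
import Mathlib

/-!
# The flat quotient with given generic fibre over a one-dimensional regular base
-/

set_option autoImplicit false
set_option backward.isDefEq.respectTransparency false
set_option linter.style.haveILetI false

universe u

open CategoryTheory CategoryTheory.Limits AlgebraicGeometry TopologicalSpace Opposite DevissLib TensorProduct

noncomputable section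

namespace FlatClosureLib

variable {X Y Z : Scheme.{u}}

/-- For an affine monomorphism the counit of pullback and direct image is an isomorphism. -/
theorem isIso_counit (i : Z ⟶ X) [IsAffineHom i] [Mono i] (M : Z.Modules) [Coh.IsQCoh M] :
    IsIso ((Scheme.Modules.pullbackPushforwardAdjunction i).counit.app M) := by
  haveI := QCohLib.isQCoh_pushforward i M
  have H : IsPullback (𝟙 Z) (𝟙 Z) i i := IsKernelPair.id_of_mono i
  have h := RpushLib.isIso_bcMap_of H M fun US UT hUS hUT hg => RpushLib.bijective_bc_affine H M hUS hUT hg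
  let a : M ⟶ (Scheme.Modules.pushforward (𝟙 Z)).obj ((Scheme.Modules.pullback (𝟙 Z)).obj M) :=
    (Scheme.Modules.pullbackPushforwardAdjunction (𝟙 Z)).unit.app M
  have e : RpushLib.bcAdj H.w M = (Scheme.Modules.pushforward i).map a := by
    apply Scheme.Modules.hom_ext
    intro U
    ext s
    simp only [RpushLib.bcAdj, Scheme.Modules.Hom.comp_app, Iso.trans_hom, NatTrans.comp_app, Iso.symm_hom,
      Scheme.Modules.pushforwardComp_hom_app_app, Scheme.Modules.pushforwardComp_inv_app_app,
      Scheme.Modules.pushforwardCongr_hom_app_app]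
    simp only [CategoryTheory.comp_apply]
    erw [CategoryTheory.id_apply]
    exact ConcreteCategory.congr_hom
      (((Scheme.Modules.pushforward (𝟙 Z)).obj ((Scheme.Modules.pullback (𝟙 Z)).obj M)).presheaf.map_id _) _
  rw [e, ← Category.id_comp ((Scheme.Modules.pushforward i).map a),
    Adjunction.homEquiv_naturality_right_symm] at h
  haveI : (Scheme.Modules.pushforward (𝟙 Z)).Full := Functor.Full.of_iso (Scheme.Modules.pushforwardId Z).symm
  haveI : (Scheme.Modules.pullback (𝟙 Z)).Full := Functor.Full.of_iso (Scheme.Modules.pullbackId Z).symm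
  haveI : (Scheme.Modules.pullback (𝟙 Z)).Faithful := Functor.Faithful.of_iso (Scheme.Modules.pullbackId Z).symm
  haveI : IsIso a := inferInstanceAs (IsIso ((Scheme.Modules.pullbackPushforwardAdjunction (𝟙 Z)).unit.app M))
  rw [show ((Scheme.Modules.pullbackPushforwardAdjunction i).homEquiv _ M).symm (𝟙 _) =
    (Scheme.Modules.pullbackPushforwardAdjunction i).counit.app M by
      rw [Adjunction.homEquiv_counit, CategoryTheory.Functor.map_id, Category.id_comp]] at h
  exact IsIso.of_isIso_comp_right _ a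

theorem flat_fromSpecStalk {X : Scheme.{u}} (x : X) : Flat (X.fromSpecStalk x) := by
  obtain ⟨V, hV, hxV, -⟩ := exists_isAffineOpen_mem_and_subset (X := X) (x := x) (U := ⊤) trivial
  rw [← hV.fromSpecStalk_eq_fromSpecStalk hxV]
  haveI := hV.isLocalization_stalk ⟨x, hxV⟩
  haveI := hV.isOpenImmersion_fromSpec
  refine MorphismProperty.comp_mem _ _ _ (HasRingHomProperty.Spec_iff.mpr ?_) inferInstance
  letI := X.presheaf.algebra_section_stalk (⟨x, hxV⟩ : V)
  exact RingHom.flat_algebraMap_iff.mpr (IsLocalization.flat (X.presheaf.stalk x)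
    (hV.primeIdealOf ⟨x, hxV⟩).asIdeal.primeCompl)

section Base

variable [IsIntegral Y] [IsLocallyNoetherian Y]

instance isAffineHom_fromSpecResidueField : IsAffineHom (Y.fromSpecResidueField (genericPoint Y)) := by
  refine ⟨fun U hU => ?_⟩
  rcases eq_or_ne U ⊥ with rfl | hne
  · have : (Y.fromSpecResidueField (genericPoint Y)) ⁻¹ᵁ ⊥ = ⊥ := rfl
    rw [this]
    exact isAffineOpen_bot _
  · have : (Y.fromSpecResidueField (genericPoint Y)) ⁻¹ᵁ U = ⊤ := by
      ext x
      simp only [Scheme.Hom.mem_preimage, TopologicalSpace.Opens.coe_top, Set.mem_univ, iff_true, SetLike.mem_coe]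
      rw [show (Y.fromSpecResidueField (genericPoint Y)) x = genericPoint Y from Scheme.fromSpecResidueField_apply _ _]
      obtain ⟨y, hy⟩ := (U.ne_bot_iff_nonempty).mp hne
      exact (genericPoint_specializes y).mem_open U.isOpen hy
    rw [this]
    exact isAffineOpen_top _

instance flat_fromSpecResidueField : Flat (Y.fromSpecResidueField (genericPoint Y)) := by
  have h : IsField (Y.presheaf.stalk (genericPoint Y)) := Field.toIsField Y.functionField
  have hb : Function.Bijective (IsLocalRing.residue (Y.presheaf.stalk (genericPoint Y))) := by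
    refine ⟨(injective_iff_map_eq_zero _).mpr fun z hz => ?_, IsLocalRing.residue_surjective⟩
    rw [IsLocalRing.residue_eq_zero_iff] at hz
    rw [IsLocalRing.isField_iff_maximalIdeal_eq.mp h] at hz
    exact hz
  haveI : IsIso (Y.residue (genericPoint Y)) := (ConcreteCategory.isIso_iff_bijective _).mpr hb
  haveI : Flat (Y.fromSpecStalk (genericPoint Y)) := flat_fromSpecStalk _
  show Flat (Spec.map (Y.residue (genericPoint Y)) ≫ Y.fromSpecStalk (genericPoint Y))
  infer_instance

variable (f : X ⟶ Y)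

instance : IsAffineHom (f.fiberι (genericPoint Y)) :=
  MorphismProperty.pullback_fst (P := @IsAffineHom) f _ inferInstance

instance : Flat (f.fiberι (genericPoint Y)) :=
  MorphismProperty.pullback_fst (P := @Flat) f _ inferInstance

instance : Mono (f.fiberι (genericPoint Y)) := by
  unfold Scheme.Hom.fiberι
  infer_instance

theorem germ_ne_zero {y : Y} (a : Y.presheaf.stalk y) (ha : a ≠ 0) :
    ∃ (U : Y.Opens) (hy : y ∈ U) (r : Γ(Y, U)), Y.presheaf.germ U y hy r = a ∧ genericPoint Y ∈ Y.basicOpen r := by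
  obtain ⟨U, hy, r, rfl⟩ := TopCat.Presheaf.exists_germ_eq Y.presheaf (x := y) a
  refine ⟨U, hy, r, rfl, ?_⟩
  have hne : Y.basicOpen r ≠ ⊥ := fun h => ha (by rw [(basicOpen_eq_bot_iff r).mp h, map_zero])
  obtain ⟨z, hz⟩ := ((Y.basicOpen r).ne_bot_iff_nonempty).mp hne
  exact (genericPoint_specializes z).mem_open (Y.basicOpen r).isOpen hz

/-- A nonzero element of a local ring of the base acts injectively on the direct image from the generic
fibre. -/
theorem push_regular (G' : (f.fiber (genericPoint Y)).Modules) (x : X) {a : Y.presheaf.stalk (f x)} (ha : a ≠ 0)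
    (m : (St x).obj ((Scheme.Modules.pushforward (f.fiberι (genericPoint Y))).obj G'))
    (h : f.stalkMap x a • m = 0) : m = 0 := by
  obtain ⟨U, hy, r, rfl, hr⟩ := germ_ne_zero a ha
  obtain ⟨W₁, hxW₁, s₁, rfl⟩ := exists_gm_eq _ x m
  let i := f.fiberι (genericPoint Y)
  let W₀ : X.Opens := W₁ ⊓ f ⁻¹ᵁ U
  have hxW₀ : x ∈ W₀ := ⟨hxW₁, hy⟩
  let P := (Scheme.Modules.pushforward i).obj G'
  let s₀ : Γ(P, W₀) := P.presheaf.map (homOfLE (inf_le_left : W₀ ≤ W₁)).op s₁
  let r₀ : Γ(X, W₀) := f.appLE U W₀ inf_le_right r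
  have hg : X.presheaf.germ W₀ x hxW₀ r₀ = f.stalkMap x (Y.presheaf.germ U (f x) hy r) := by
    rw [Scheme.Hom.germ_stalkMap_apply]
    show X.presheaf.germ W₀ x hxW₀ ((f.app U ≫ X.presheaf.map (homOfLE _).op) r) = _
    exact TopCat.Presheaf.germ_res_apply _ _ _ _ _
  have h0 : gm P x hxW₀ (r₀ • s₀) = 0 := by
    rw [gm_smul, hg, show gm P x hxW₀ s₀ = gm P x hxW₁ s₁ from gm_map P _ x hxW₀ s₁]
    exact h
  obtain ⟨W, hxW, i₁, i₂, he⟩ := TopCat.Presheaf.germ_eq P.presheaf x hxW₀ hxW₀ (r₀ • s₀) 0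
    (h0.trans (gm_zero P x hxW₀).symm)
  rw [map_zero] at he
  erw [QCohLib.map_smul'] at he
  have hu : IsUnit (i.app W (X.presheaf.map i₁.op r₀)) := by
    refine RingedSpace.isUnit_of_isUnit_germ (f.fiber (genericPoint Y)).toRingedSpace (i ⁻¹ᵁ W) _ fun z hz => ?_
    refine ((f.fiber (genericPoint Y)).mem_basicOpen _ z hz).mp ?_
    rw [← Scheme.preimage_basicOpen, Scheme.Hom.mem_preimage]
    erw [Scheme.basicOpen_res]
    refine ⟨hz, ?_⟩
    rw [Scheme.basicOpen_appLE]
    refine ⟨leOfHom i₁ hz, ?_⟩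
    show f (i z) ∈ Y.basicOpen r
    have hfz : f (i z) = genericPoint Y := by
      have := Scheme.Hom.range_fiberι f (genericPoint Y)
      exact (Set.ext_iff.mp this (i z)).mp ⟨z, rfl⟩
    rw [hfz]
    exact hr
  let sW : Γ(G', i ⁻¹ᵁ W) := P.presheaf.map i₁.op s₀
  have hs' : sW = 0 := hu.smul_eq_zero.mp ((QCohLib.push_smul i G' _ _).symm.trans he)
  have hs : P.presheaf.map i₁.op s₀ = 0 := hs' 
  have h4 := gm_map P (leOfHom i₁) x hxW s₀
  erw [hs] at h4
  rw [gm_zero] at h4
  exact (h4.trans (gm_map P _ x hxW₀ s₁)).symm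

variable (hY : ∀ y : Y, IsRegularLocalRing (Y.presheaf.stalk y) ∧ ringKrullDim (Y.presheaf.stalk y) ≤ 1)

include hY in
theorem isPrincipalIdealRing_stalk (y : Y) : IsPrincipalIdealRing (Y.presheaf.stalk y) := by
  haveI := (hY y).1
  by_cases hf : IsField (Y.presheaf.stalk y)
  · letI := hf.toField
    infer_instance
  have hle : (IsLocalRing.maximalIdeal (Y.presheaf.stalk y)).spanFinrank ≤ 1 := by
    have h := (IsRegularLocalRing.spanFinrank_maximalIdeal (R := Y.presheaf.stalk y)).trans_le (hY y).2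
    exact_mod_cast h
  have hp : (IsLocalRing.maximalIdeal (Y.presheaf.stalk y)).IsPrincipal := by
    rcases Nat.le_one_iff_eq_zero_or_eq_one.mp hle with h0 | h1
    · rw [(Submodule.spanFinrank_eq_zero_iff_eq_bot (IsNoetherian.noetherian _)).mp h0]
      infer_instance
    · exact ((Submodule.spanFinrank_eq_one_iff _).mp h1).1
  exact ((tfae_of_isNoetherianRing_of_isLocalRing_of_isDomain (Y.presheaf.stalk y)).out 4 0).mp hp

include hY in
/-- Torsion-free quasi-coherent modules are flat. -/
theorem isFlatOver_of_torsionFree (G : X.Modules)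
    (h : ∀ (x : X) (a : Y.presheaf.stalk (f x)), a ≠ 0 → ∀ m : (St x).obj G, f.stalkMap x a • m = 0 → m = 0) :
    FlatMod.IsFlatOver f G := by
  intro x
  unfold FlatMod.IsFlatOverAt
  letI := FlatMod.moduleStalkOver f G x
  haveI := isPrincipalIdealRing_stalk hY (f x)
  rw [Module.Flat.flat_iff_torsion_eq_bot_of_isBezout, eq_bot_iff]
  rintro m ⟨⟨a, ha⟩, hm⟩
  exact h x a (nonZeroDivisors.ne_zero ha) m hm

/-- A nonzero element of the base acts injectively on the stalk of a flat module. -/
theorem regular_of_flat {G : X.Modules} (hG : FlatMod.IsFlatOver f G) (x : X) {a : Y.presheaf.stalk (f x)}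
    (ha : a ≠ 0) (m : (St x).obj G) (h : f.stalkMap x a • m = 0) : m = 0 := by
  letI := FlatMod.moduleStalkOver f G x
  haveI : Module.Flat (Y.presheaf.stalk (f x)) (G.presheaf.stalk x) := hG x
  have hr : IsSMulRegular (G.presheaf.stalk x) a :=
    Module.Flat.isSMulRegular_of_isRegular (IsRegular.of_ne_zero ha)
  refine @hr (m : G.presheaf.stalk x) 0 (Eq.trans ?_ (smul_zero a).symm)
  exact h

/-- A flat quasi-coherent module vanishes if its restriction to the generic fibre does. -/
theorem isZero_of_pullback {G : X.Modules} [Coh.IsQCoh G]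
    (htf : ∀ (x : X) (a : Y.presheaf.stalk (f x)), a ≠ 0 → ∀ m : (St x).obj G, f.stalkMap x a • m = 0 → m = 0)
    (h : IsZero ((Scheme.Modules.pullback (f.fiberι (genericPoint Y))).obj G)) : IsZero G := by
  let i := f.fiberι (genericPoint Y)
  have hz : ∀ z, i z ∉ CohB1.support G := fun z hz => by
    let σ := (i.stalkMap z).hom
    have h2 : IsZero ((ModuleCat.extendScalars.{u, u, u} σ).obj ((DerSch.stalkFunctor X (i z)).obj G)) :=
      ((DerSch.stalkFunctor _ z).map_isZero h).of_iso ((KFlatLib.stalkPullIso i z).app G).symm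
    letI := σ.toAlgebra
    haveI : Module.Flat (X.presheaf.stalk (i z)) ((f.fiber (genericPoint Y)).presheaf.stalk z) := Flat.stalkMap i z
    haveI : IsLocalHom (algebraMap (X.presheaf.stalk (i z)) ((f.fiber (genericPoint Y)).presheaf.stalk z)) :=
      inferInstanceAs (IsLocalHom σ)
    haveI : Module.FaithfullyFlat (X.presheaf.stalk (i z)) ((f.fiber (genericPoint Y)).presheaf.stalk z) :=
      Module.FaithfullyFlat.of_flat_of_isLocalHom
    haveI : Subsingleton ((f.fiber (genericPoint Y)).presheaf.stalk z ⊗[X.presheaf.stalk (i z)]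
        ((DerSch.stalkFunctor X (i z)).obj G)) := ModuleCat.subsingleton_of_isZero h2
    exact hz (Module.FaithfullyFlat.lTensor_reflects_triviality (X.presheaf.stalk (i z))
      ((f.fiber (genericPoint Y)).presheaf.stalk z) ((DerSch.stalkFunctor X (i z)).obj G))
  refine isZero_of_support_empty (Set.eq_empty_of_forall_notMem fun x hx => ?_)
  obtain ⟨a, ha⟩ := (mem_support_iff_nonzero G x).mp hx
  obtain ⟨U, hU, hyU, -⟩ := exists_isAffineOpen_mem_and_subset (x := f x) (U := ⊤) trivial
  obtain ⟨V, hV, hxV, hVU⟩ := exists_isAffineOpen_mem_and_subset (U := f ⁻¹ᵁ U) (x := x) hyU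
  obtain ⟨v, s, hv, hs⟩ := AssPointLib.exists_smul_eq_gm hV hxV a
  have hs0 : gm G x hxV s ≠ 0 := fun h0 => ha (hv.smul_eq_zero.mp (hs.trans h0))
  let φ := f.appLE U V hVU
  by_cases hex : ∃ r : Γ(Y, U), r ≠ 0 ∧ φ r • s = 0
  · obtain ⟨r, hr, hrs⟩ := hex
    haveI : Nonempty U := ⟨⟨f x, hyU⟩⟩
    refine hs0 (htf x (Y.presheaf.germ U (f x) hyU r) ?_ _ ?_)
    · intro h0
      exact hr (germ_injective_of_isIntegral Y (f x) hyU (h0.trans (map_zero _).symm))
    · rw [Scheme.Hom.germ_stalkMap_apply]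
      have hg : X.presheaf.germ (f ⁻¹ᵁ U) x hyU (f.app U r) = X.presheaf.germ V x hxV (φ r) := by
        show _ = X.presheaf.germ V x hxV ((f.app U ≫ X.presheaf.map (homOfLE _).op) r)
        exact (TopCat.Presheaf.germ_res_apply _ _ _ _ _).symm
      rw [hg, ← gm_smul, hrs, gm_zero]
  · push Not at hex
    haveI : Nonempty U := ⟨⟨f x, hyU⟩⟩
    have hd : Disjoint (AssPointLib.ann Γ(X, V) s : Set Γ(X, V))
        (((nonZeroDivisors Γ(Y, U)).map φ.hom : Submonoid Γ(X, V)) : Set Γ(X, V)) := by
      refine Set.disjoint_left.mpr ?_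
      rintro _ hI ⟨r, hr, rfl⟩
      exact hex r (nonZeroDivisors.ne_zero hr) ((AssPointLib.mem_ann _).mp hI)
    obtain ⟨Q, hQp, hIQ, hQd⟩ := Ideal.exists_le_prime_disjoint _ _ hd
    let Q' : PrimeSpectrum Γ(X, V) := ⟨Q, hQp⟩
    have hfQ : f (hV.fromSpec Q') = genericPoint Y := by
      rw [AssPointLib.apply_fromSpec f hU hV hVU]
      have he : (Q'.comap φ.hom).asIdeal = ⊥ := by
        rw [eq_bot_iff]
        intro r hr
        by_contra hr0
        exact Set.disjoint_left.mp hQd (show φ r ∈ Q from hr) ⟨r, mem_nonZeroDivisors_of_ne_zero hr0, rfl⟩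
      have hgen : genericPoint Y ∈ U := (genericPoint_specializes (f x)).mem_open U.isOpen hyU
      refine Eq.trans (congrArg hU.fromSpec ?_) (hU.fromSpec_primeIdealOf ⟨genericPoint Y, hgen⟩)
      rw [hU.primeIdealOf_genericPoint]
      exact PrimeSpectrum.ext (he.trans (by rw [genericPoint_eq_bot_of_affine]; rfl))
    obtain ⟨z, hz'⟩ : hV.fromSpec Q' ∈ Set.range i := by
      rw [Scheme.Hom.range_fiberι]
      exact hfQ
    have hmem : hV.fromSpec Q' ∈ V := AssPointLib.fromSpec_mem hV Q'
    refine hz z ?_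
    rw [show i z = hV.fromSpec Q' from hz']
    refine (mem_support_iff_nonzero G _).mpr ⟨gm G _ hmem s, fun h0 => ?_⟩
    obtain ⟨t, ht, hts⟩ := (gm_eq_zero_iff hV _ hmem s).mp h0
    rw [AssPointLib.primeIdealOf_fromSpec] at ht
    exact ht (hIQ hts)

include hY in
theorem main (F : X.Modules) (hF : Coh.IsQCoh F) (G' : (f.fiber (genericPoint Y)).Modules) (hG' : Coh.IsQCoh G')
    (π : (Scheme.Modules.pullback (f.fiberι (genericPoint Y))).obj F ⟶ G') [Epi π] :
    (∃ (G : X.Modules) (ρ : F ⟶ G) (e : (Scheme.Modules.pullback (f.fiberι (genericPoint Y))).obj G ≅ G'),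
        Epi ρ ∧ Coh.IsQCoh G ∧ FlatMod.IsFlatOver f G ∧
          (Scheme.Modules.pullback (f.fiberι (genericPoint Y))).map ρ ≫ e.hom = π) ∧
      ∀ (G₁ G₂ : X.Modules) (ρ₁ : F ⟶ G₁) (ρ₂ : F ⟶ G₂)
        (e₁ : (Scheme.Modules.pullback (f.fiberι (genericPoint Y))).obj G₁ ≅ G')
        (e₂ : (Scheme.Modules.pullback (f.fiberι (genericPoint Y))).obj G₂ ≅ G'),
        Epi ρ₁ → Epi ρ₂ → Coh.IsQCoh G₁ → Coh.IsQCoh G₂ → FlatMod.IsFlatOver f G₁ → FlatMod.IsFlatOver f G₂ →
        (Scheme.Modules.pullback (f.fiberι (genericPoint Y))).map ρ₁ ≫ e₁.hom = π →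
        (Scheme.Modules.pullback (f.fiberι (genericPoint Y))).map ρ₂ ≫ e₂.hom = π →
        ∃ e : G₁ ≅ G₂, ρ₁ ≫ e.hom = ρ₂ := by
  haveI := hF
  haveI := hG'
  let i := f.fiberι (genericPoint Y)
  let adj := Scheme.Modules.pullbackPushforwardAdjunction i
  haveI := RpushLib.preservesMonomorphisms_pullback i
  refine ⟨?_, ?_⟩
  · let β : F ⟶ (Scheme.Modules.pushforward i).obj G' := adj.homEquiv F G' π
    haveI : Coh.IsQCoh ((Scheme.Modules.pushforward i).obj G') := QCohLib.isQCoh_pushforward i G'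
    let G : X.Modules := Abelian.image β
    haveI hGq : Coh.IsQCoh G := QCohLib.isQCoh_image β
    let θ : (Scheme.Modules.pullback i).obj G ⟶ G' := (adj.homEquiv G G').symm (Abelian.image.ι β)
    have hθ : (Scheme.Modules.pullback i).map (Abelian.factorThruImage β) ≫ θ = π := by
      rw [← Adjunction.homEquiv_naturality_left_symm, Abelian.image.fac]
      exact Equiv.symm_apply_apply _ π
    haveI : Epi θ := epi_of_epi_fac hθ
    haveI : Mono θ := by
      haveI := isIso_counit i G'
      have he : θ = (Scheme.Modules.pullback i).map (Abelian.image.ι β) ≫ adj.counit.app G' :=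
        adj.homEquiv_counit _ _ _
      rw [he]
      infer_instance
    haveI : IsIso θ := isIso_of_mono_of_epi θ
    refine ⟨G, Abelian.factorThruImage β, asIso θ, inferInstance, hGq,
      isFlatOver_of_torsionFree f hY G fun x a ha m hm => ?_, hθ⟩
    haveI : Mono ((St x).map (Abelian.image.ι β)) := inferInstance
    refine (ModuleCat.mono_iff_injective _).mp this ?_
    rw [map_zero]
    refine push_regular f G' x ha _ ?_
    have := congrArg ((St x).map (Abelian.image.ι β)).hom hm
    rw [map_smul, map_zero] at this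
    exact this
  · intro G₁ G₂ ρ₁ ρ₂ e₁ e₂ hρ₁ hρ₂ hq₁ hq₂ hf₁ hf₂ he₁ he₂
    have hzero : ∀ (A B : X.Modules) (p : F ⟶ A) (q : F ⟶ B) (a : (Scheme.Modules.pullback i).obj A ≅ G')
        (b : (Scheme.Modules.pullback i).obj B ≅ G'), Coh.IsQCoh A → Coh.IsQCoh B → FlatMod.IsFlatOver f B →
        (Scheme.Modules.pullback i).map p ≫ a.hom = π → (Scheme.Modules.pullback i).map q ≫ b.hom = π →
        kernel.ι p ≫ q = 0 := by
      intro A B p q a b hA hB hfB hp hq
      haveI := hA
      haveI := hB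
      haveI : Coh.IsQCoh (kernel p) := QCohLib.isQCoh_kernel p
      let h := kernel.ι p ≫ q
      haveI : Coh.IsQCoh (Abelian.image h) := QCohLib.isQCoh_image h
      have h0 : (Scheme.Modules.pullback i).map h = 0 := by
        refine (cancel_mono b.hom).mp ?_
        rw [Functor.map_comp, Category.assoc, hq, zero_comp, ← hp, ← Category.assoc, ← Functor.map_comp,
          kernel.condition, Functor.map_zero, zero_comp]
      have hz : IsZero ((Scheme.Modules.pullback i).obj (Abelian.image h)) := by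
        haveI : Mono ((Scheme.Modules.pullback i).map (Abelian.image.ι h)) := inferInstance
        have h1 : (Scheme.Modules.pullback i).map (Abelian.image.ι h) = 0 := by
          refine (cancel_epi ((Scheme.Modules.pullback i).map (Abelian.factorThruImage h))).mp ?_
          rw [← Functor.map_comp, Abelian.image.fac, h0, comp_zero]
        exact IsZero.of_mono_eq_zero _ h1
      have := isZero_of_pullback f (fun x c hc m hm => ?_) hz
      · show h = 0
        rw [← Abelian.image.fac h, this.eq_of_src (Abelian.image.ι h) 0, comp_zero]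
      haveI : Mono ((St x).map (Abelian.image.ι h)) := inferInstance
      refine (ModuleCat.mono_iff_injective _).mp this ?_
      rw [map_zero]
      refine regular_of_flat f hfB x hc _ ?_
      have e := congrArg ((St x).map (Abelian.image.ι h)).hom hm
      rw [map_smul, map_zero] at e
      exact e
    let d₁ := Abelian.epiDesc ρ₁ ρ₂ (hzero G₁ G₂ ρ₁ ρ₂ e₁ e₂ hq₁ hq₂ hf₂ he₁ he₂)
    let d₂ := Abelian.epiDesc ρ₂ ρ₁ (hzero G₂ G₁ ρ₂ ρ₁ e₂ e₁ hq₂ hq₁ hf₁ he₂ he₁)
    refine ⟨⟨d₁, d₂, ?_, ?_⟩, Abelian.comp_epiDesc _ _ _⟩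
    · rw [← cancel_epi ρ₁, ← Category.assoc, Abelian.comp_epiDesc, Abelian.comp_epiDesc, Category.comp_id]
    · rw [← cancel_epi ρ₂, ← Category.assoc, Abelian.comp_epiDesc, Abelian.comp_epiDesc, Category.comp_id]

end Base

end FlatClosureLib
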